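import Groth.Agent.GrpdField.SmoothTrans
import Groth.Agent.GrpBasic.Cartier
import Groth.Agent.GrpBasic.ReducedNhd

/-!
# Cartier's theorem for groupoids on a field
-/

universe u
open CategoryTheory CategoryTheory.Limits AlgebraicGeometry Groth.Agent.GrpField Groth.Agent.Cartier

set_option backward.isDefEq.respectTransparency false

namespace Groth.Agent.GrpdField

variable {S : Scheme.{u}} (G : Grpd.GroupoidScheme S) {k : Type u} [Field k]
  (eU : G.U ≅ Spec (CommRingCat.of k)) [LocallyOfFiniteType G.s] [LocallyOfFiniteType G.t]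

omit [LocallyOfFiniteType G.s] [LocallyOfFiniteType G.t] in
lemma mulR_congr {T : Scheme.{u}} {α α' β β' : T ⟶ G.R} (h₁ : α = α') (h₂ : β = β')
    (h : α ≫ sk G eU = β ≫ tk G eU) : mulR G eU α β h = mulR G eU α' β' (h₁ ▸ h₂ ▸ h) := by
  subst h₁ h₂; rfl

omit [LocallyOfFiniteType G.s] [LocallyOfFiniteType G.t] in
lemma mulR_unit_left {T : Scheme.{u}} (β : T ⟶ G.R) :
    mulR G eU ((β ≫ tk G eU) ≫ ek G eU) β (by rw [Category.assoc, ek_sk, Category.comp_id]) = β := by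
  rw [mulR]
  conv_rhs => rw [← G.e_comp β]
  congr 1
  apply pullback.hom_ext <;> simp

omit [LocallyOfFiniteType G.s] [LocallyOfFiniteType G.t] in
lemma mulR_unit_right {T : Scheme.{u}} (α : T ⟶ G.R) :
    mulR G eU α ((α ≫ sk G eU) ≫ ek G eU) (by rw [Category.assoc, Category.assoc, ek_tk, Category.comp_id]) = α := by
  rw [mulR]
  conv_rhs => rw [← G.comp_e α]
  congr 1
  apply pullback.hom_ext <;> simp

omit [LocallyOfFiniteType G.s] [LocallyOfFiniteType G.t] in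
lemma mulR_eq_right {T : Scheme.{u}} {α β : T ⟶ G.R} (h : α ≫ sk G eU = β ≫ tk G eU)
    (h' : α = (β ≫ tk G eU) ≫ ek G eU) : mulR G eU α β h = β := by
  subst h'; exact mulR_unit_left G eU β

omit [LocallyOfFiniteType G.s] [LocallyOfFiniteType G.t] in
lemma mulR_eq_left {T : Scheme.{u}} {α β : T ⟶ G.R} (h : α ≫ sk G eU = β ≫ tk G eU)
    (h' : β = (α ≫ sk G eU) ≫ ek G eU) : mulR G eU α β h = α := by
  subst h'; exact mulR_unit_right G eU α

omit [LocallyOfFiniteType G.s] [LocallyOfFiniteType G.t] in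
/-- the product of the generic point with a transported infinitesimal point -/
theorem exists_lift_point {k1 O A : CommRingCat.{u}} (st₀ : Spec O ⟶ G.R) (εc : O ⟶ .of k)
    (hεc : Spec.map εc ≫ st₀ = ek G eU) (ic tg : CommRingCat.of k ⟶ O)
    (hic : Spec.map ic = st₀ ≫ sk G eU) (htg : Spec.map tg = st₀ ≫ tk G eU)
    (φδ : O ⟶ k1) (inlK : CommRingCat.of k ⟶ k1) (inlO : O ⟶ A) (fstO : A ⟶ O)
    (fstK : k1 ⟶ .of k) (j : k1 ⟶ A) (π : A ⟶ k1)
    (hφi : ic ≫ φδ = inlK) (hinl : inlK ≫ j = tg ≫ inlO) (hinlfst : inlO ≫ fstO = 𝟙 _)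
    (hjfst : j ≫ fstO = fstK ≫ tg) (hφfst : φδ ≫ fstK = εc) (hinlπ : inlO ≫ π = εc ≫ inlK)
    (hjπ : j ≫ π = 𝟙 _) :
    ∃ Θ : Spec A ⟶ G.R, Spec.map fstO ≫ Θ = st₀ ∧ Spec.map π ≫ Θ = Spec.map φδ ≫ st₀ := by
  let P₁ : Spec A ⟶ G.R := Spec.map inlO ≫ st₀
  let P₂ : Spec A ⟶ G.R := Spec.map j ≫ Spec.map φδ ≫ st₀
  have hP : P₂ ≫ sk G eU = P₁ ≫ tk G eU := by
    simp only [P₁, P₂, Category.assoc, ← hic, ← htg, ← Spec.map_comp]
    rw [reassoc_of% hφi, hinl]
  have a : Spec.map fstO ≫ P₁ = st₀ := by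
    rw [show P₁ = Spec.map inlO ≫ st₀ from rfl, ← Spec.map_comp_assoc, hinlfst, Spec.map_id,
      Category.id_comp]
  have b : Spec.map fstO ≫ P₂ = (st₀ ≫ tk G eU) ≫ ek G eU := by
    rw [show P₂ = Spec.map j ≫ Spec.map φδ ≫ st₀ from rfl, ← Spec.map_comp_assoc, hjfst,
      Spec.map_comp_assoc, ← Spec.map_comp_assoc φδ, hφfst, hεc, htg]
  have a' : Spec.map π ≫ P₁ = ((Spec.map φδ ≫ st₀) ≫ sk G eU) ≫ ek G eU := by
    rw [show P₁ = Spec.map inlO ≫ st₀ from rfl, ← Spec.map_comp_assoc, hinlπ, Spec.map_comp_assoc,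
      hεc, Category.assoc (Spec.map φδ), ← hic, ← Spec.map_comp, hφi]
  have b' : Spec.map π ≫ P₂ = Spec.map φδ ≫ st₀ := by
    rw [show P₂ = Spec.map j ≫ Spec.map φδ ≫ st₀ from rfl, ← Spec.map_comp_assoc, hjπ, Spec.map_id,
      Category.id_comp]
  clear_value P₁ P₂
  refine ⟨mulR G eU P₂ P₁ hP, ?_, ?_⟩
  · rw [comp_mulR, mulR_eq_right G eU _ (b.trans (congrArg (fun z => (z ≫ tk G eU) ≫ ek G eU) a.symm))]
    exact a
  · rw [comp_mulR, mulR_eq_left G eU _ (a'.trans (congrArg (fun z => (z ≫ sk G eU) ≫ ek G eU) b'.symm))]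
    exact b'

include eU in
theorem isReduced_stalk_ek [CharZero k] :
    _root_.IsReduced (G.R.presheaf.stalk (ek G eU (IsLocalRing.closedPoint k))) := by
  have : LocallyOfFiniteType (sk G eU) := inferInstanceAs (LocallyOfFiniteType (G.s ≫ eU.hom))
  have : IsLocallyNoetherian G.R := LocallyOfFiniteType.isLocallyNoetherian (sk G eU)
  set x₀ := ek G eU (IsLocalRing.closedPoint k)
  set O : CommRingCat.{u} := G.R.presheaf.stalk x₀
  set st₀ := G.R.fromSpecStalk x₀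
  obtain ⟨εc, hεc⟩ : ∃ φ : O ⟶ .of k, Spec.map φ ≫ st₀ = ek G eU :=
    exists_Spec_map_fromSpecStalk (ek G eU) rfl
  obtain ⟨ic, hic⟩ : ∃ φ : CommRingCat.of k ⟶ O, Spec.map φ = st₀ ≫ sk G eU :=
    Spec.map_surjective _
  obtain ⟨tg, htg⟩ : ∃ φ : CommRingCat.of k ⟶ O, Spec.map φ = st₀ ≫ tk G eU :=
    Spec.map_surjective _
  have hεi : ic ≫ εc = 𝟙 _ := Spec.map_injective (by
    rw [Spec.map_comp, hic, ← Category.assoc, hεc, ek_sk, Spec.map_id])
  have hεt : tg ≫ εc = 𝟙 _ := Spec.map_injective (by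
    rw [Spec.map_comp, htg, ← Category.assoc, hεc, ek_tk, Spec.map_id])
  have hi : ∀ c, εc.hom (ic.hom c) = c := fun c => congrArg (fun φ => φ.hom c) hεi
  have ht : ∀ c, εc.hom (tg.hom c) = c := fun c => congrArg (fun φ => φ.hom c) hεt
  have hker : RingHom.ker εc.hom = IsLocalRing.maximalIdeal O :=
    IsLocalRing.eq_maximalIdeal (RingHom.ker_isMaximal_of_surjective _ fun c => ⟨_, hi c⟩)
  refine Cartier.isReduced εc.hom hker ic.hom hi fun δ hδ hδi => ?_
  let φδ : O ⟶ .of (DualNumber k) := CommRingCat.ofHom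
    { toFun := fun a => (εc.hom a, δ a)
      map_one' := TrivSqZeroExt.ext (map_one εc.hom) (by
        change δ 1 = 0
        rw [← map_one ic.hom, hδi])
      map_mul' := fun a b => TrivSqZeroExt.ext (map_mul εc.hom a b) (by
        change δ (a * b) = εc.hom a • δ b + MulOpposite.op (εc.hom b) • δ a
        rw [hδ a b, op_smul_eq_smul, smul_eq_mul, smul_eq_mul])
      map_zero' := TrivSqZeroExt.ext (map_zero εc.hom) (map_zero δ)
      map_add' := fun a b => TrivSqZeroExt.ext (map_add εc.hom a b) (map_add δ a b) }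
  let inlK : CommRingCat.of k ⟶ .of (DualNumber k) :=
    CommRingCat.ofHom (TrivSqZeroExt.inlHom k k)
  let A : CommRingCat.{u} := .of (DualNumber O)
  have : IsLocalRing A := isLocalRing_dualNumber O
  let inlO : O ⟶ A := CommRingCat.ofHom (TrivSqZeroExt.inlHom O O)
  let fstO : A ⟶ O := CommRingCat.ofHom (TrivSqZeroExt.fstHom ℤ O O).toRingHom
  let fstK : CommRingCat.of (DualNumber k) ⟶ .of k :=
    CommRingCat.ofHom (TrivSqZeroExt.fstHom ℤ k k).toRingHom
  let j : CommRingCat.of (DualNumber k) ⟶ A := CommRingCat.ofHom (dualMap tg.hom)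
  let π : A ⟶ CommRingCat.of (DualNumber k) := CommRingCat.ofHom (dualMap εc.hom)
  have hφi : ic ≫ φδ = inlK := by
    ext c : 2
    exact TrivSqZeroExt.ext (hi c) (hδi c)
  have hinl : inlK ≫ j = tg ≫ inlO := by
    ext c : 2
    exact TrivSqZeroExt.ext rfl (map_zero _)
  have hinlfst : inlO ≫ fstO = 𝟙 _ := rfl
  have hjfst : j ≫ fstO = fstK ≫ tg := rfl
  have hφfst : φδ ≫ fstK = εc := rfl
  have hinlπ : inlO ≫ π = εc ≫ inlK := by
    ext c : 2
    exact TrivSqZeroExt.ext rfl (map_zero _)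
  have hjπ : j ≫ π = 𝟙 _ :=
    CommRingCat.hom_ext (RingHom.ext fun c => TrivSqZeroExt.ext (ht c.fst) (ht c.snd))
  obtain ⟨Θ, hz, hw⟩ := exists_lift_point G eU st₀ εc hεc ic tg hic htg φδ inlK inlO fstO fstK j π
    hφi hinl hinlfst hjfst hφfst hinlπ hjπ
  have hpt : Θ (IsLocalRing.closedPoint A) = x₀ := by
    have : IsLocalHom fstO.hom :=
      ⟨fun a ha => TrivSqZeroExt.isUnit_iff_isUnit_fst.2 ha⟩
    have h1 := congrArg (fun g : Spec O ⟶ G.R => g (IsLocalRing.closedPoint O)) hz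
    simp only [Scheme.Hom.comp_apply] at h1
    rw [← Spec_closedPoint (f := fstO)]
    exact h1.trans Scheme.fromSpecStalk_closedPoint
  obtain ⟨ψ, hψ⟩ : ∃ φ : O ⟶ A, Spec.map φ ≫ st₀ = Θ :=
    exists_Spec_map_fromSpecStalk Θ hpt
  have h1 : ψ ≫ fstO = 𝟙 _ := Spec.map_injective ((cancel_mono st₀).1 (by
    rw [Spec.map_comp, Category.assoc, hψ, Spec.map_id, Category.id_comp, hz]))
  have h2 : ψ ≫ π = φδ := Spec.map_injective ((cancel_mono st₀).1 (by
    rw [Spec.map_comp, Category.assoc, hψ, hw]))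
  have hfst : ∀ a, (ψ.hom a).fst = a := fun a => congrArg (fun φ => φ.hom a) h1
  refine ⟨Derivation.mk'
    (AddMonoidHom.toIntLinearMap
      (AddMonoidHom.mk' (fun a => (ψ.hom a).snd) fun a b => by rw [map_add]; rfl))
    fun a b => ?_, fun a => ?_⟩
  · change (ψ.hom (a * b)).snd = a • (ψ.hom b).snd + b • (ψ.hom a).snd
    rw [map_mul, TrivSqZeroExt.snd_mul, hfst, hfst, op_smul_eq_smul]
  · exact congrArg TrivSqZeroExt.snd (congrArg (fun φ => φ.hom a) h2)

include eU in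
theorem smooth_st_perfect [PerfectField k] [IsReduced G.R] : Smooth G.s ∧ Smooth G.t := by
  have : LocallyOfFiniteType (sk G eU) := inferInstanceAs (LocallyOfFiniteType (G.s ≫ eU.hom))
  have : IsLocallyNoetherian G.R := LocallyOfFiniteType.isLocallyNoetherian (sk G eU)
  have : Nonempty G.R := ⟨ek G eU (IsLocalRing.closedPoint k)⟩
  exact smooth_st_of_smoothLocus G eU (sk G eU).dense_smoothLocus_of_perfectField.nonempty

include eU in
theorem smooth_st_charZero [CharZero k] : Smooth G.s ∧ Smooth G.t := by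
  have : LocallyOfFiniteType (sk G eU) := inferInstanceAs (LocallyOfFiniteType (G.s ≫ eU.hom))
  have : IsLocallyNoetherian G.R := LocallyOfFiniteType.isLocallyNoetherian (sk G eU)
  have := isReduced_stalk_ek G eU
  obtain ⟨U, hxU, hU⟩ := GrpBasic.exists_isReduced_nhd (ek G eU (IsLocalRing.closedPoint k))
  have : Nonempty U := ⟨⟨_, hxU⟩⟩
  obtain ⟨x, hx⟩ := (U.ι ≫ sk G eU).dense_smoothLocus_of_perfectField.nonempty
  refine smooth_st_of_smoothLocus G eU ⟨U.ι x, ?_⟩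
  have : x ∈ U.ι ⁻¹ᵁ (sk G eU).smoothLocus := by
    rw [Scheme.Hom.preimage_smoothLocus_eq]; exact hx
  exact this

end Groth.Agent.GrpdField
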