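import Groth.Agent.GrpdField.Uniq

/-!
# The component through the identity of a groupoid on a field
-/

universe u
open CategoryTheory CategoryTheory.Limits AlgebraicGeometry

namespace Groth.Agent.GrpdField

open GrpComp

variable {S : Scheme.{u}} (G : Grpd.GroupoidScheme S) {k : Type u} [Field k]
  (eU : G.U ≅ Spec (CommRingCat.of k))

lemma e_i : G.e ≫ G.i = G.e := by
  have h1 := G.comp_e (G.e ≫ G.i)
  have h2 := G.i_comp G.e
  have e1 : (G.e ≫ G.i) ≫ G.s ≫ G.e = G.e := by
    simp only [Category.assoc, reassoc_of% G.i_s, reassoc_of% G.e_t]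
  have e2 : G.e ≫ G.s ≫ G.e = G.e := by simp [reassoc_of% G.e_s]
  simp only [e1] at h1
  rw [← h1, h2, e2]

lemma i_i : G.i ≫ G.i = 𝟙 G.R := by
  have hα : (G.i ≫ G.i) ≫ G.s = G.s := by rw [Category.assoc, G.i_s, G.i_t]
  have h1 : (G.i ≫ G.i) ≫ G.s = G.i ≫ G.t := by rw [hα, G.i_t]
  have h2 : G.i ≫ G.s = 𝟙 G.R ≫ G.t := by rw [Category.id_comp, G.i_s]
  have ha := G.assoc (G.i ≫ G.i) G.i (𝟙 G.R) h1 h2
  have hl : pullback.lift (G.i ≫ G.i) G.i h1 ≫ G.c = G.t ≫ G.e := by
    refine (G.i_comp G.i).trans ?_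
    rw [reassoc_of% G.i_s]
  have hr : pullback.lift G.i (𝟙 G.R) h2 ≫ G.c = G.s ≫ G.e := by
    have := G.i_comp (𝟙 G.R)
    simp only [Category.id_comp] at this
    exact this
  have e1 := G.e_comp (𝟙 G.R)
  have e2 := G.comp_e (G.i ≫ G.i)
  simp only [Category.id_comp] at e1
  simp only [hl, hr] at ha
  rw [e1] at ha
  simp only [Category.assoc, reassoc_of% G.i_s, reassoc_of% G.i_t] at e2
  rw [e2] at ha
  exact ha.symm

/-- the component through the identity is geometrically irreducible for both structures -/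
theorem geometricallyIrreducible_ek {Z : Scheme.{u}} (j : Z ⟶ G.R) [IsClosedImmersion j]
    (hZ : Set.range j ∈ irreducibleComponents G.R)
    (he : ek G eU (IsLocalRing.closedPoint k) ∈ Set.range j) :
    GeometricallyIrreducible (j ≫ sk G eU) ∧ GeometricallyIrreducible (j ≫ tk G eU) := by
  have hu := uniq_R G eU
  have key : ∀ {Z : Scheme.{u}} (j : Z ⟶ G.R) [IsClosedImmersion j],
      Set.range j ∈ irreducibleComponents G.R → ek G eU (IsLocalRing.closedPoint k) ∈ Set.range j →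
      GeometricallyIrreducible (j ≫ sk G eU) := fun j _ hZ he =>
    geometricallyIrreducible_component (sk G eU) j (ek G eU) (ek_sk G eU) (uniq_bc G eU _)
      (hu _ _ hZ he)
  refine ⟨key j hZ he, ?_⟩
  have : IsIso G.i := ⟨G.i, i_i G, i_i G⟩
  have hit : j ≫ tk G eU = (j ≫ G.i) ≫ sk G eU := by
    simp only [sk, tk, Category.assoc, reassoc_of% G.i_s]
  have hei : G.i (ek G eU (IsLocalRing.closedPoint k)) = ek G eU (IsLocalRing.closedPoint k) := by
    rw [← Scheme.Hom.comp_apply, ek, Category.assoc, e_i]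
  rw [hit]
  refine key (j ≫ G.i) ?_ ⟨_, by rw [Scheme.Hom.comp_apply, he.choose_spec, hei]⟩
  let e := G.i.homeomorph
  have hr : Set.range (j ≫ G.i) = e '' Set.range j := by
    rw [← Set.range_comp]; rfl
  rw [hr]
  refine ⟨hZ.1.image e e.continuous.continuousOn, fun T hT hle => ?_⟩
  have h3 : e.symm '' T ⊆ Set.range j := hZ.2 (hT.image e.symm e.symm.continuous.continuousOn)
    (fun z hz => ⟨e z, hle ⟨z, hz, rfl⟩, e.symm_apply_apply z⟩)
  exact fun z hz => ⟨e.symm z, h3 ⟨z, hz, rfl⟩, e.apply_symm_apply z⟩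

end Groth.Agent.GrpdField
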