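import Groth.Agent.GrpField.Dimension

/-!
# Equidimensionality from equal codimension of closed points
-/

universe u
open CategoryTheory AlgebraicGeometry TopologicalSpace

namespace Groth.Agent.GrpdField

open GrpField

variable {X : Scheme.{u}} [JacobsonSpace X]

/-- the dimension is the codimension of any closed point -/
theorem dim_eq_coheight {c : X} (hc : IsClosed ({c} : Set X))
    (h : ∀ x y : X, IsClosed ({x} : Set X) → IsClosed ({y} : Set X) →
      Order.coheight x = Order.coheight y) :
    (Order.coheight c : WithBot ℕ∞) = topologicalKrullDim X := by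
  have : Nonempty X := ⟨c⟩
  have h' : topologicalKrullDim X = Order.krullDim X :=
    Order.krullDim_eq_of_orderIso (irreducibleSetEquivPoints (α := X))
  rw [h', Order.krullDim_eq_iSup_coheight]
  refine le_antisymm (le_iSup (fun x : X => (Order.coheight x : WithBot ℕ∞)) c) (iSup_le fun x => ?_)
  obtain ⟨z, hz, hzc⟩ := nonempty_inter_closedPoints (Z := closure ({x} : Set X))
    ⟨x, subset_closure rfl⟩ isClosed_closure.isLocallyClosed
  refine WithBot.coe_le_coe.2 ((Order.coheight_anti (show z ≤ x from specializes_iff_mem_closure.2 hz)).trans ?_)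
  exact (h z c hzc hc).le

/-- components and nonempty opens all have the dimension of the space -/
theorem equidim [IsLocallyNoetherian X]
    (h : ∀ x y : X, IsClosed ({x} : Set X) → IsClosed ({y} : Set X) →
      Order.coheight x = Order.coheight y) :
    (∀ Z ∈ irreducibleComponents ↥X, topologicalKrullDim ↥Z = topologicalKrullDim ↥X) ∧
    (∀ (g : X) (U : Set X), IsOpen U → g ∈ U → topologicalKrullDim U = topologicalKrullDim ↥X) := by
  have key : ∀ (A W : Set X), IsLocallyClosed A → IsOpen W → W.Nonempty → W ⊆ A →
      topologicalKrullDim A = topologicalKrullDim ↥X := by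
    intro A W hA hW hne hWA
    obtain ⟨z, hz, hzc⟩ := nonempty_inter_closedPoints hne hW.isLocallyClosed
    refine le_antisymm (topologicalKrullDim_subspace_le _ _) ?_
    rw [← dim_eq_coheight hzc h]
    exact coheight_le_topologicalKrullDim A hA z fun y hy => hWA (hy.mem_open hW hz)
  refine ⟨fun Z hZ => ?_, fun g U hU hg => key U U hU.isLocallyClosed hU ⟨g, hg⟩ subset_rfl⟩
  obtain ⟨W, hW, hne, hWZ⟩ := exists_open_subset_component _ hZ
  exact key Z W (isClosed_of_mem_irreducibleComponents Z hZ).isLocallyClosed hW hne hWZ

end Groth.Agent.GrpdField
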