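import Groth.Agent.GrpdField.Uniq
import Groth.Agent.GrpdField.Equidim

/-!
# Closed points of a groupoid on a field have equal codimension
-/

universe u
open CategoryTheory CategoryTheory.Limits AlgebraicGeometry Groth.Agent.GrpField

set_option backward.isDefEq.respectTransparency false

namespace Groth.Agent.GrpdField

variable {S : Scheme.{u}} (G : Grpd.GroupoidScheme S) {k : Type u} [Field k]
  (eU : G.U ≅ Spec (CommRingCat.of k))

/-- a closed point of a scheme locally of finite type over a field has algebraic residue field -/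
theorem isIntegral_residue {X : Scheme.{u}} (f : X ⟶ Spec (CommRingCat.of k)) [LocallyOfFiniteType f]
    {r : X} (hr : IsClosed ({r} : Set X)) {φ : CommRingCat.of k ⟶ X.residueField r}
    (hφ : Spec.map φ = X.fromSpecResidueField r ≫ f) : φ.hom.IsIntegral := by
  have : IsClosedImmersion (X.fromSpecResidueField r) :=
    .of_isPreimmersion _ (by rw [Scheme.range_fromSpecResidueField]; exact hr)
  have h : LocallyOfFiniteType (Spec.map φ) := hφ ▸ inferInstance
  rw [HasRingHomProperty.Spec_iff (P := @LocallyOfFiniteType)] at h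
  let : Algebra k (X.residueField r) := φ.hom.toAlgebra
  have : Algebra.FiniteType k (X.residueField r) := h
  have : Module.Finite k (X.residueField r) := finite_of_finite_type_of_isJacobsonRing _ _
  exact Algebra.IsIntegral.isIntegral (R := k) (A := X.residueField r)

/-- an integral map to an algebraically closed field is an algebraic closure -/
theorem exists_ringEquiv {M : Type u} [Field M] [IsAlgClosed M] (φ : k →+* M) (hφ : φ.IsIntegral) :
    ∃ σ : AlgebraicClosure k ≃+* M, σ.toRingHom.comp (algebraMap k (AlgebraicClosure k)) = φ := by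
  let : Algebra k M := φ.toAlgebra
  have : Algebra.IsIntegral k M := ⟨hφ⟩
  have : IsAlgClosure k M := ⟨inferInstance, Algebra.IsIntegral.isAlgebraic⟩
  refine ⟨(IsAlgClosure.equiv k (AlgebraicClosure k) M).toRingEquiv, ?_⟩
  ext a
  exact (IsAlgClosure.equiv k (AlgebraicClosure k) M).commutes a

variable [LocallyOfFiniteType G.s] [LocallyOfFiniteType G.t]

include eU in
/-- the codimension of closed points of the base change is that of the identity -/
theorem coheight_bc {z : ↥(pullback (sk G eU) (acb k))}
    (hz : IsClosed ({z} : Set ↥(pullback (sk G eU) (acb k)))) :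
    Order.coheight z = Order.coheight (ePt G eU (acb k)) := by
  have : LocallyOfFiniteType (sk G eU) := inferInstanceAs (LocallyOfFiniteType (G.s ≫ eU.hom))
  have : LocallyOfFiniteType (tk G eU) := inferInstanceAs (LocallyOfFiniteType (G.t ≫ eU.hom))
  have : IsIntegralHom (acb k) := IsIntegralHom.SpecMap_iff.2 Algebra.IsIntegral.isIntegral
  let M := AlgebraicClosure k
  let p := pointOfClosedPoint (pullback.snd (sk G eU) (acb k)) z hz
  have hps : p ≫ pullback.snd (sk G eU) (acb k) = 𝟙 _ := pointOfClosedPoint_comp _ z hz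
  let u := p ≫ pullback.fst _ _
  have hus : u ≫ sk G eU = acb k := by
    simp only [u, Category.assoc, pullback.condition, reassoc_of% hps]
  let r := u (IsLocalRing.closedPoint M)
  have hr : IsClosed ({r} : Set G.R) := by
    have hrz : r = pullback.fst (sk G eU) (acb k) z := by
      simp only [r, u, Scheme.Hom.comp_apply]
      rw [pointOfClosedPoint_apply _ z hz]
    rw [hrz, ← Set.image_singleton]
    exact (pullback.fst (sk G eU) (acb k)).isClosedMap _ hz
  let j : G.R.residueField r ⟶ CommRingCat.of M := (Scheme.SpecToEquivOfField M G.R u).2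
  have hu : Spec.map j ≫ G.R.fromSpecResidueField r = u :=
    (Scheme.SpecToEquivOfField M G.R).left_inv u
  obtain ⟨φs, hφs⟩ := Spec.map_surjective (G.R.fromSpecResidueField r ≫ sk G eU)
  obtain ⟨φt, hφt⟩ := Spec.map_surjective (G.R.fromSpecResidueField r ≫ tk G eU)
  have hjs : φs ≫ j = CommRingCat.ofHom (algebraMap k M) := by
    apply Spec.map_injective
    rw [Spec.map_comp, hφs, ← Category.assoc, hu, hus]
  have hj : j.hom.IsIntegral := by
    refine RingHom.IsIntegral.tower_top φs.hom j.hom ?_
    rw [← CommRingCat.hom_comp, hjs]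
    exact Algebra.IsIntegral.isIntegral (R := k) (A := M)
  -- the target gives another algebraic closure
  let φ₀ := φt ≫ j
  have hφ₀ : Spec.map φ₀ = u ≫ tk G eU := by
    rw [Spec.map_comp, hφt, ← Category.assoc, hu]
  have hint : φ₀.hom.IsIntegral := (isIntegral_residue (tk G eU) hr hφt).trans _ _ hj
  obtain ⟨v, hv, hvi⟩ : ∃ v : Spec (CommRingCat.of M) ⟶ Spec (CommRingCat.of M),
      v ≫ acb k = u ≫ tk G eU ∧ IsIso v := by
    obtain ⟨σ, hσ⟩ := exists_ringEquiv φ₀.hom hint
    refine ⟨Spec.map (CommRingCat.ofHom σ.toRingHom), ?_, ?_⟩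
    · rw [← Spec.map_comp, ← hφ₀]
      congr 1
      exact CommRingCat.hom_ext hσ
    · have : IsIso (CommRingCat.ofHom σ.toRingHom) := σ.toCommRingCatIso.isIso_hom
      infer_instance
  -- translate
  have h1 : (u ≫ G.i) ≫ tk G eU = acb k := by
    simp only [← hus, tk, sk, Category.assoc, reassoc_of% G.i_t]
  have h2 : (u ≫ G.i) ≫ sk G eU = v ≫ acb k := by
    rw [hv]; simp only [tk, sk, Category.assoc, reassoc_of% G.i_s]
  let e₁ := ((pullback.congrHom (f₁ := sk G eU) rfl h1.symm) ≪≫ transR G eU (u ≫ G.i) ≪≫
    pullback.congrHom rfl h2).hom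
  let P : pullback (sk G eU) (v ≫ acb k) ⟶ pullback (sk G eU) (acb k) :=
    pullback.map _ _ _ _ (𝟙 _) v (𝟙 _) (by simp) (by simp)
  have : IsIso P := pullback.map_isIso _ _ _ _ _ _ _ _ _
  have hp : p ≫ e₁ ≫ P = v ≫ pullback.lift (acb k ≫ ek G eU) (𝟙 _)
      (by rw [Category.assoc, ek_sk]; simp) := by
    have hp' : p ≫ (pullback.congrHom (f₁ := sk G eU) rfl h1.symm).hom =
        pullback.lift u (𝟙 _) (by simp only [tk, sk, Category.id_comp, Category.assoc, reassoc_of% G.i_t]) := by
      apply pullback.hom_ext
      · simp [u]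
      · simpa using hps
    simp only [e₁, Iso.trans_hom, ← Category.assoc, hp', transR_lift]
    apply pullback.hom_ext
    · simp only [P, Category.assoc, pullback.congrHom_hom, pullback.lift_fst, pullback.lift_fst_assoc,
        Category.comp_id, Category.id_comp]
      rw [reassoc_of% hv]
      simp only [tk, sk, Category.assoc, reassoc_of% G.i_s]
    · simp only [P, Category.assoc, pullback.congrHom_hom, pullback.lift_snd, pullback.lift_snd_assoc,
        Category.comp_id, Category.id_comp]
  let e := (e₁ ≫ P).homeomorph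
  have hz' : e z = ePt G eU (acb k) := by
    change (e₁ ≫ P) z = _
    rw [← pointOfClosedPoint_apply (pullback.snd (sk G eU) (acb k)) z hz (IsLocalRing.closedPoint M),
      ← Scheme.Hom.comp_apply, hp, Scheme.Hom.comp_apply, ePt]
    have : Subsingleton (Spec (CommRingCat.of M)) := inferInstanceAs (Subsingleton (PrimeSpectrum M))
    exact congrArg _ (Subsingleton.elim _ _)
  rw [← hz']
  exact (e.isOpenEmbedding.coheight_eq (x := z)).symm

include eU in
/-- all closed points of `R` have the same codimension -/
theorem coheight_eq {x y : G.R} (hx : IsClosed ({x} : Set G.R)) (hy : IsClosed ({y} : Set G.R)) :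
    Order.coheight x = Order.coheight y := by
  have : LocallyOfFiniteType (sk G eU) := inferInstanceAs (LocallyOfFiniteType (G.s ≫ eU.hom))
  have : IsIntegralHom (acb k) := IsIntegralHom.SpecMap_iff.2 Algebra.IsIntegral.isIntegral
  have : Flat (acb k) := flat_acb
  have : Surjective (acb k) := PointBase.surj _ _
  let π := pullback.fst (sk G eU) (acb k)
  have : JacobsonSpace ↥(pullback (sk G eU) (acb k)) :=
    LocallyOfFiniteType.jacobsonSpace (pullback.snd (sk G eU) (acb k))
  have key : ∀ w : G.R, IsClosed ({w} : Set G.R) →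
      Order.coheight w = Order.coheight (ePt G eU (acb k)) := by
    intro w hw
    obtain ⟨w₀, hw₀⟩ := π.surjective w
    obtain ⟨z, hz, hzc⟩ := nonempty_inter_closedPoints (Z := π ⁻¹' {w}) ⟨w₀, hw₀⟩
      (hw.preimage π.continuous).isLocallyClosed
    rw [← show π z = w from hz, ← coheight_eq_of_flat_isIntegralHom π, coheight_bc G eU hzc]
  rw [key x hx, key y hy]

end Groth.Agent.GrpdField
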