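import Mathlib
import Groth.Agent.LangMap.Main

/-!
# A field inside a finitely generated domain is algebraic over the constants
-/

universe u
open Polynomial

namespace Groth.Agent.GrpdField

/-- a sequence of monic, pairwise coprime polynomials -/
noncomputable def euclidPoly : ℕ → ℤ[X]
  | 0 => X
  | n + 1 => 1 + ∏ i : Fin (n + 1), euclidPoly i.1
decreasing_by all_goals omega

lemma euclidPoly_monic : ∀ n, (euclidPoly n).Monic ∧ 0 < (euclidPoly n).natDegree := by
  intro n
  induction n using Nat.strong_induction_on with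
  | h n ih =>
    cases n with
    | zero => rw [euclidPoly]; exact ⟨monic_X, by simp⟩
    | succ n =>
      rw [euclidPoly]
      have hm : (∏ i : Fin (n + 1), euclidPoly i.1).Monic := monic_prod_of_monic _ _ fun i _ => (ih i i.2).1
      have hd : 0 < (∏ i : Fin (n + 1), euclidPoly i.1).natDegree := by
        rw [natDegree_prod_of_monic _ _ fun (i : Fin (n + 1)) _ => (ih i.1 i.2).1]
        exact (ih 0 (by omega)).2.trans_le
          (Finset.single_le_sum (f := fun i : Fin (n + 1) => (euclidPoly i.1).natDegree)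
            (fun i _ => Nat.zero_le _) (Finset.mem_univ (0 : Fin (n + 1))))
      have hlt : (1 : ℤ[X]).degree < (∏ i : Fin (n + 1), euclidPoly i.1).degree := by
        rw [degree_one, degree_eq_natDegree hm.ne_zero]; exact_mod_cast hd
      refine ⟨hm.add_of_right hlt, ?_⟩
      rw [natDegree_add_eq_right_of_degree_lt hlt]; exact hd

lemma euclidPoly_coprime {i n : ℕ} (h : i < n) {R : Type*} [CommRing R] :
    IsCoprime ((euclidPoly i).map (Int.castRingHom R)) ((euclidPoly n).map (Int.castRingHom R)) := by
  obtain ⟨m, rfl⟩ : ∃ m, n = m + 1 := ⟨n - 1, by omega⟩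
  rw [euclidPoly.eq_2, Polynomial.map_add, Polynomial.map_one, Polynomial.map_prod,
    ← Finset.mul_prod_erase Finset.univ _ (Finset.mem_univ (⟨i, h⟩ : Fin (m + 1)))]
  exact IsCoprime.add_mul_left_right isCoprime_one_right _

lemma exists_coprime {K : Type*} [Field K] {g : K[X]} (hg : g ≠ 0) :
    ∃ n, IsCoprime g ((euclidPoly n).map (Int.castRingHom K)) := by
  classical
  by_contra hne
  simp only [not_exists] at hne
  have hp : ∀ n, ∃ p, Prime p ∧ p ∣ g ∧ p ∣ (euclidPoly n).map (Int.castRingHom K) := fun n => by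
    by_contra hc
    exact hne n (isCoprime_of_prime_dvd (fun h => hg h.1) fun z hz hzg hzq => hc ⟨z, hz, hzg, hzq⟩)
  choose π hπ using hp
  let s := (UniqueFactorizationMonoid.normalizedFactors g).toFinset
  have hmem : ∀ n, normalize (π n) ∈ s := fun n => by
    rw [Multiset.mem_toFinset]
    obtain ⟨q, hq, hassoc⟩ :=
      UniqueFactorizationMonoid.exists_mem_normalizedFactors_of_dvd hg (hπ n).1.irreducible (hπ n).2.1
    rw [← UniqueFactorizationMonoid.normalize_normalized_factor q hq] at hq
    rwa [normalize_eq_normalize hassoc.dvd hassoc.dvd']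
  have hinj : Function.Injective fun n => (⟨normalize (π n), hmem n⟩ : s) := by
    intro i j hij
    by_contra hne'
    have he : normalize (π i) = normalize (π j) := congrArg Subtype.val hij
    have hd : π i ∣ π j := by
      rw [← normalize_dvd_iff, he, normalize_dvd_iff]
    rcases lt_or_gt_of_ne hne' with h | h
    · exact (hπ i).1.not_unit ((euclidPoly_coprime h).isUnit_of_dvd' (hπ i).2.2 (hd.trans (hπ j).2.2))
    · exact (hπ i).1.not_unit ((euclidPoly_coprime h).isUnit_of_dvd' (hd.trans (hπ j).2.2) (hπ i).2.2)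
  exact not_injective_infinite_finite _ hinj

/-- A field mapping to a finitely generated domain over `K` lands in elements algebraic over `K`. -/
theorem isIntegral_of_field {K A L : Type u} [Field K] [CommRing A] [IsDomain A] [Algebra K A]
    [Algebra.FiniteType K A] [Field L] (t : L →+* A) (x : L) : IsIntegral K (t x) := by
  by_contra hτ
  let φ : K[X] →ₐ[K] A := aeval (t x)
  have hinj : Function.Injective φ := by
    rw [injective_iff_map_eq_zero]
    intro p hp
    by_contra hp0
    exact hτ (IsAlgebraic.isIntegral ⟨p, hp0, hp⟩)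
  have hfp : φ.toRingHom.FinitePresentation := by
    refine RingHom.FinitePresentation.of_finiteType.1 ?_
    refine RingHom.FiniteType.of_comp_finiteType (f := (Polynomial.C : K →+* K[X])) ?_
    rw [show φ.toRingHom.comp Polynomial.C = algebraMap K A from φ.comp_algebraMap]
    exact RingHom.finiteType_algebraMap.2 ‹_›
  have hC := PrimeSpectrum.isConstructible_range_comap hfp
  have hgen : genericPoint (PrimeSpectrum K[X]) ∈ Set.range (PrimeSpectrum.comap φ.toRingHom) := by
    refine ⟨⟨⊥, Ideal.isPrime_bot⟩, ?_⟩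
    have h0 : PrimeSpectrum.comap φ.toRingHom ⟨⊥, Ideal.isPrime_bot⟩ = ⟨⊥, Ideal.isPrime_bot⟩ := by
      ext1
      exact Ideal.comap_bot_of_injective φ.toRingHom hinj
    rw [h0]
    refine IsGenericPoint.eq ?_ (genericPoint_spec _)
    rw [IsGenericPoint, PrimeSpectrum.closure_singleton]
    simp [Set.eq_univ_iff_forall, PrimeSpectrum.mem_zeroLocus]
  obtain ⟨U, hU, ⟨P₀, hP₀⟩, hUC⟩ := LangMap.exists_open_subset_of_genericPoint hC hgen
  obtain ⟨_, ⟨g, rfl⟩, hP₀g, hgU⟩ :=
    PrimeSpectrum.isTopologicalBasis_basic_opens.exists_subset_of_mem_open hP₀ hU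
  have hg : g ≠ 0 := fun h => hP₀g (h ▸ zero_mem P₀.asIdeal)
  obtain ⟨n, hn⟩ := exists_coprime hg
  let q := (euclidPoly n).map (Int.castRingHom K)
  have hqm : q.Monic := (euclidPoly_monic n).1.map _
  have hqd : 0 < q.natDegree := by
    rw [(euclidPoly_monic n).1.natDegree_map]; exact (euclidPoly_monic n).2
  -- a prime containing `q` avoids `g`
  have hqu : ¬ IsUnit q := fun h => by rw [natDegree_eq_zero_of_isUnit h] at hqd; exact lt_irrefl 0 hqd
  obtain ⟨m, hm, hqm'⟩ := exists_max_ideal_of_mem_nonunits hqu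
  have hgm : g ∉ m := fun hgm => hm.ne_top <| by
    obtain ⟨a, b, hab⟩ := hn
    rw [Ideal.eq_top_iff_one, ← hab]
    exact m.add_mem (m.mul_mem_left _ hgm) (m.mul_mem_left _ hqm')
  obtain ⟨Q, hQ⟩ := hUC (hgU (show (⟨m, hm.isPrime⟩ : PrimeSpectrum K[X]) ∈ _ from hgm))
  have hqQ : φ q ∈ Q.asIdeal := by
    have : q ∈ (PrimeSpectrum.comap φ.toRingHom Q).asIdeal := by rw [hQ]; exact hqm'
    exact this
  -- but it is the image of a nonzero element of the field
  have hq : φ q = t ((euclidPoly n).eval₂ (Int.castRingHom L) x) := by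
    rw [hom_eval₂]
    simp only [φ, q, aeval_def, eval₂_map]
    congr 1
    exact RingHom.ext_int _ _
  have hne : (euclidPoly n).eval₂ (Int.castRingHom L) x ≠ 0 := fun h => by
    rw [h, map_zero] at hq
    exact hqm.ne_zero ((injective_iff_map_eq_zero φ).1 hinj q hq)
  exact Q.2.ne_top (Ideal.eq_top_of_isUnit_mem _ hqQ (hq ▸ (IsUnit.mk0 _ hne).map t))

end Groth.Agent.GrpdField
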