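import Groth.Agent.GrpComp.Orbit

/-!
# Components through a rational point are geometrically irreducible, given uniqueness
-/

universe u
open CategoryTheory CategoryTheory.Limits AlgebraicGeometry Groth.Agent.GrpField

namespace Groth.Agent.GrpdField

open GrpComp

variable {k : Type u} [Field k] {X : Scheme.{u}} (f : X ⟶ Spec (CommRingCat.of k))

/-- base change to the algebraic closure -/
noncomputable abbrev acb (k : Type u) [Field k] :
    Spec (CommRingCat.of (AlgebraicClosure k)) ⟶ Spec (CommRingCat.of k) :=
  Spec.map (CommRingCat.ofHom (algebraMap k (AlgebraicClosure k)))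

theorem flat_acb : Flat (acb k) := by
  rw [acb, HasRingHomProperty.Spec_iff (P := @Flat)]
  exact RingHom.flat_algebraMap_iff.2 inferInstance

theorem uniq_of_acb (h : Uniq ↥(pullback f (acb k))) : Uniq X := by
  have : Flat (acb k) := flat_acb
  have : Surjective (acb k) := PointBase.surj _ _
  exact uniq_of_flat (pullback.fst f (acb k)) h

/-- over the algebraic closure, the preimage of the component of a rational point is irreducible -/
theorem preimage_component_eq (p : Spec (CommRingCat.of k) ⟶ X) (hp : p ≫ f = 𝟙 _)
    (h : Uniq ↥(pullback f (acb k))) :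
    IsIrreducible ((pullback.fst f (acb k)) ⁻¹' irreducibleComponent (p (IsLocalRing.closedPoint k))) := by
  have : Flat (acb k) := flat_acb
  have : Surjective (acb k) := PointBase.surj _ _
  have : IsIntegralHom (acb k) := IsIntegralHom.SpecMap_iff.2 Algebra.IsIntegral.isIntegral
  let π := pullback.fst f (acb k)
  let x := p (IsLocalRing.closedPoint k)
  obtain ⟨x', hx'⟩ := π.surjective x
  have huX : Uniq X := uniq_of_acb f h
  have hsing := subsingleton_preimage_section f (acb k) p hp (IsLocalRing.closedPoint k)
  suffices π ⁻¹' irreducibleComponent x = irreducibleComponent x' from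
    this ▸ isIrreducible_irreducibleComponent
  refine subset_antisymm (fun z hz => ?_) ?_
  · -- lift the generic point of the component to a generalisation of `z`
    have hI : IsIrreducible (irreducibleComponent x) := isIrreducible_irreducibleComponent
    have hg := hI.closure_genericPoint isClosed_irreducibleComponent
    obtain ⟨a, ha, hpa⟩ := Flat.generalizingMap π
      (show hI.genericPoint ⤳ π z from specializes_iff_mem_closure.2 (hg.symm ▸ hz))
    have hcz : irreducibleComponent a = irreducibleComponent z :=
      h.eq_of_mem (ha.mem_closed isClosed_irreducibleComponent mem_irreducibleComponent)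
    have hsub : irreducibleComponent x ⊆ π '' irreducibleComponent a := by
      refine hg ▸ closure_minimal (Set.singleton_subset_iff.2 ?_)
        (π.isClosedMap _ isClosed_irreducibleComponent)
      exact ⟨a, mem_irreducibleComponent, hpa⟩
    obtain ⟨w, hw, hwx⟩ := hsub (mem_irreducibleComponent (x := x))
    have hwx' : w = x' := hsing hwx hx'
    rw [← hwx'] at *
    rw [← h.eq_of_mem hw, hcz]
    exact mem_irreducibleComponent
  · refine Set.image_subset_iff.1 (huX.eq_of_irreducible
      (isIrreducible_irreducibleComponent.image π π.continuous.continuousOn)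
      ⟨x', mem_irreducibleComponent, hx'⟩)

set_option backward.isDefEq.respectTransparency false in
/-- the component of a rational point stays irreducible over every extension -/
theorem isIrreducible_preimage (p : Spec (CommRingCat.of k) ⟶ X) (hp : p ≫ f = 𝟙 _)
    (h : Uniq ↥(pullback f (acb k))) {K : Type u} [Field K] [Algebra k K] :
    IsIrreducible ((pullback.fst f (Spec.map (CommRingCat.ofHom (algebraMap k K)))) ⁻¹'
      irreducibleComponent (p (IsLocalRing.closedPoint k))) := by
  let k' := AlgebraicClosure k
  let L := AlgebraicClosure K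
  let φ : k' →ₐ[k] L := IsAlgClosed.lift
  let := φ.toRingHom.toAlgebra
  let g := acb k
  let v := Spec.map (CommRingCat.ofHom (algebraMap k' L))
  let w := Spec.map (CommRingCat.ofHom (algebraMap k K))
  let r := Spec.map (CommRingCat.ofHom (algebraMap K L))
  have : Surjective r := PointBase.surj L r
  have e : v ≫ g = r ≫ w := by
    rw [← Spec.map_comp, ← Spec.map_comp]
    congr 1
    ext a
    exact (φ.commutes a).trans (IsScalarTower.algebraMap_apply k K L a)
  let C := irreducibleComponent (p (IsLocalRing.closedPoint k))
  have h1 := GeomConn.isIrreducible_preimage_fst (k := k') (K := L) (pullback.snd f g)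
    (preimage_component_eq f p hp h)
  let q : pullback (pullback.snd f g) v ⟶ pullback f w :=
    (pullbackLeftPullbackSndIso f g v).hom ≫ (pullback.congrHom rfl e).hom ≫
      (pullbackLeftPullbackSndIso f w r).inv ≫ pullback.fst _ r
  have hq : q ≫ pullback.fst f w = pullback.fst (pullback.snd f g) v ≫ pullback.fst f g := by simp [q]
  have : Surjective q := inferInstance
  have h2 := h1.image q q.continuous.continuousOn
  have heq : q '' ((pullback.fst (pullback.snd f g) v).base ⁻¹' ((pullback.fst f g) ⁻¹' C)) =
      (pullback.fst f w) ⁻¹' C := by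
    rw [← Set.image_preimage_eq ((pullback.fst f w) ⁻¹' C) q.surjective]
    congr 1
    ext z
    simp only [Set.mem_preimage, ← Scheme.Hom.comp_apply, hq]
  rw [heq] at h2
  exact h2

/-- a scheme structure on the component of a rational point is geometrically irreducible -/
theorem geometricallyIrreducible_component {Z : Scheme.{u}} (j : Z ⟶ X) [IsClosedImmersion j]
    (p : Spec (CommRingCat.of k) ⟶ X) (hp : p ≫ f = 𝟙 _) (h : Uniq ↥(pullback f (acb k)))
    (hj : Set.range j = irreducibleComponent (p (IsLocalRing.closedPoint k))) :
    GeometricallyIrreducible (j ≫ f) := by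
  refine ⟨geometrically_iff_of_isClosedUnderIsomorphisms.mpr fun K _ y => ?_⟩
  obtain ⟨φ, rfl⟩ := Spec.map_surjective y
  let : Algebra k K := φ.hom.toAlgebra
  let q : pullback (j ≫ f) (Spec.map φ) ⟶ pullback f (Spec.map φ) :=
    pullback.map _ _ _ _ j (𝟙 _) (𝟙 _) (by simp) (by simp)
  have hr : Set.range q = (pullback.fst f (Spec.map φ)) ⁻¹'
      irreducibleComponent (p (IsLocalRing.closedPoint k)) := by
    rw [Scheme.Pullback.range_map, hj]
    simp
  have : IsClosedImmersion q :=
    MorphismProperty.pullbackMap (P := @IsClosedImmersion) (show IsClosedImmersion j from ‹_›)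
      (show IsClosedImmersion (𝟙 _) from inferInstance) rfl (Category.id_comp _).symm
  obtain ⟨⟨_, hne⟩, hpre⟩ := hr ▸ isIrreducible_preimage f p hp h (K := K)
  refine (irreducibleSpace_def _).2 ⟨?_, fun u v hu hv hu' hv' => ?_⟩
  · obtain ⟨a, -⟩ := hne; exact ⟨a, trivial⟩
  · obtain ⟨U, hU, rfl⟩ := q.isClosedEmbedding.isEmbedding.isInducing.isOpen_iff.1 hu
    obtain ⟨V, hV, rfl⟩ := q.isClosedEmbedding.isEmbedding.isInducing.isOpen_iff.1 hv
    obtain ⟨a, -, ha⟩ := hu'
    obtain ⟨b, -, hb⟩ := hv'
    obtain ⟨_, ⟨c, rfl⟩, hcU, hcV⟩ := hpre U V hU hV ⟨_, ⟨a, rfl⟩, ha⟩ ⟨_, ⟨b, rfl⟩, hb⟩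
    exact ⟨c, trivial, hcU, hcV⟩

end Groth.Agent.GrpdField
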