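import Groth.Agent.GrpdField.Dim
import Groth.Agent.GrpBasic.Perfect
import Groth.Agent.Grpd.Inverse

/-!
# A groupoid on a field which is smooth at one point is smooth
-/

universe u
open CategoryTheory CategoryTheory.Limits AlgebraicGeometry Groth.Agent.GrpField

set_option backward.isDefEq.respectTransparency false

namespace Groth.Agent.GrpdField

variable {S : Scheme.{u}} (G : Grpd.GroupoidScheme S) {k : Type u} [Field k]
  (eU : G.U ≅ Spec (CommRingCat.of k)) [LocallyOfFiniteType G.s] [LocallyOfFiniteType G.t]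

/-- the smooth locus does not see an isomorphism of the base -/
theorem smoothLocus_comp_iso {X Y Y' : Scheme.{u}} (f : X ⟶ Y) (v : Y ⟶ Y') [IsIso v]
    [LocallyOfFinitePresentation f] : (f ≫ v).smoothLocus = f.smoothLocus := by
  have h : ∀ {A B B' : Scheme.{u}} (g : A ⟶ B) (w : B ⟶ B') [IsIso w]
      [LocallyOfFinitePresentation g], g.smoothLocus ≤ (g ≫ w).smoothLocus := by
    intro A B B' g w _ _ x hx
    have : Smooth (g.smoothLocus.ι ≫ g) := by
      rw [← Scheme.Hom.smoothLocus_eq_top_iff, ← Scheme.Hom.preimage_smoothLocus_eq]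
      exact Scheme.Opens.ι_preimage_self _
    have : Smooth (g.smoothLocus.ι ≫ g ≫ w) := by rw [← Category.assoc]; infer_instance
    have h1 : (⟨x, hx⟩ : g.smoothLocus) ∈ g.smoothLocus.ι ⁻¹ᵁ (g ≫ w).smoothLocus := by
      rw [Scheme.Hom.preimage_smoothLocus_eq, Scheme.Hom.smoothLocus_eq_top (g.smoothLocus.ι ≫ g ≫ w)]
      trivial
    exact h1
  refine le_antisymm ?_ (h f v)
  refine (h (f ≫ v) (inv v)).trans (le_of_eq ?_)
  rw! [Category.assoc, IsIso.hom_inv_id, Category.comp_id]
  rfl

include eU in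
/-- every closed point of the base change moves to the identity by an automorphism of the scheme -/
theorem exists_iso_ePt {z : ↥(pullback (sk G eU) (acb k))}
    (hz : IsClosed ({z} : Set ↥(pullback (sk G eU) (acb k)))) :
    ∃ (E : pullback (sk G eU) (acb k) ⟶ pullback (sk G eU) (acb k))
      (v : Spec (CommRingCat.of (AlgebraicClosure k)) ⟶ Spec (CommRingCat.of (AlgebraicClosure k))),
      IsIso E ∧ IsIso v ∧ E ≫ pullback.snd _ _ = pullback.snd _ _ ≫ v ∧
      E z = ePt G eU (acb k) := by
  have : LocallyOfFiniteType (sk G eU) := inferInstanceAs (LocallyOfFiniteType (G.s ≫ eU.hom))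
  have : LocallyOfFiniteType (tk G eU) := inferInstanceAs (LocallyOfFiniteType (G.t ≫ eU.hom))
  have : IsIntegralHom (acb k) := IsIntegralHom.SpecMap_iff.2 Algebra.IsIntegral.isIntegral
  let M := AlgebraicClosure k
  let p := pointOfClosedPoint (pullback.snd (sk G eU) (acb k)) z hz
  have hps : p ≫ pullback.snd (sk G eU) (acb k) = 𝟙 _ := pointOfClosedPoint_comp _ z hz
  let u := p ≫ pullback.fst _ _
  have hus : u ≫ sk G eU = acb k := by
    simp only [u, Category.assoc, pullback.condition, reassoc_of% hps]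
  let r := u (IsLocalRing.closedPoint M)
  have hr : IsClosed ({r} : Set G.R) := by
    have hrz : r = pullback.fst (sk G eU) (acb k) z := by
      simp only [r, u, Scheme.Hom.comp_apply]
      rw [pointOfClosedPoint_apply _ z hz]
    rw [hrz, ← Set.image_singleton]
    exact (pullback.fst (sk G eU) (acb k)).isClosedMap _ hz
  let j : G.R.residueField r ⟶ CommRingCat.of M := (Scheme.SpecToEquivOfField M G.R u).2
  have hu : Spec.map j ≫ G.R.fromSpecResidueField r = u :=
    (Scheme.SpecToEquivOfField M G.R).left_inv u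
  obtain ⟨φs, hφs⟩ := Spec.map_surjective (G.R.fromSpecResidueField r ≫ sk G eU)
  obtain ⟨φt, hφt⟩ := Spec.map_surjective (G.R.fromSpecResidueField r ≫ tk G eU)
  have hjs : φs ≫ j = CommRingCat.ofHom (algebraMap k M) := by
    apply Spec.map_injective
    rw [Spec.map_comp, hφs, ← Category.assoc, hu, hus]
  have hj : j.hom.IsIntegral := by
    refine RingHom.IsIntegral.tower_top φs.hom j.hom ?_
    rw [← CommRingCat.hom_comp, hjs]
    exact Algebra.IsIntegral.isIntegral (R := k) (A := M)
  let φ₀ := φt ≫ j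
  have hφ₀ : Spec.map φ₀ = u ≫ tk G eU := by
    rw [Spec.map_comp, hφt, ← Category.assoc, hu]
  have hint : φ₀.hom.IsIntegral := (isIntegral_residue (tk G eU) hr hφt).trans _ _ hj
  obtain ⟨v, hv, hvi⟩ : ∃ v : Spec (CommRingCat.of M) ⟶ Spec (CommRingCat.of M),
      v ≫ acb k = u ≫ tk G eU ∧ IsIso v := by
    obtain ⟨σ, hσ⟩ := exists_ringEquiv φ₀.hom hint
    refine ⟨Spec.map (CommRingCat.ofHom σ.toRingHom), ?_, ?_⟩
    · rw [← Spec.map_comp, ← hφ₀]
      congr 1
      exact CommRingCat.hom_ext hσ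
    · have : IsIso (CommRingCat.ofHom σ.toRingHom) := σ.toCommRingCatIso.isIso_hom
      infer_instance
  have h1 : (u ≫ G.i) ≫ tk G eU = acb k := by
    simp only [← hus, tk, sk, Category.assoc, reassoc_of% G.i_t]
  have h2 : (u ≫ G.i) ≫ sk G eU = v ≫ acb k := by
    rw [hv]; simp only [tk, sk, Category.assoc, reassoc_of% G.i_s]
  let e₁ := ((pullback.congrHom (f₁ := sk G eU) rfl h1.symm) ≪≫ transR G eU (u ≫ G.i) ≪≫
    pullback.congrHom rfl h2).hom
  let P : pullback (sk G eU) (v ≫ acb k) ⟶ pullback (sk G eU) (acb k) :=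
    pullback.map _ _ _ _ (𝟙 _) v (𝟙 _) (by simp) (by simp)
  have : IsIso P := pullback.map_isIso _ _ _ _ _ _ _ _ _
  refine ⟨e₁ ≫ P, v, inferInstance, hvi, by simp [e₁, P, transR], ?_⟩
  have hp : p ≫ e₁ ≫ P = v ≫ pullback.lift (acb k ≫ ek G eU) (𝟙 _)
      (by rw [Category.assoc, ek_sk]; simp) := by
    have hp' : p ≫ (pullback.congrHom (f₁ := sk G eU) rfl h1.symm).hom =
        pullback.lift u (𝟙 _) (by simp only [tk, sk, Category.id_comp, Category.assoc, reassoc_of% G.i_t]) := by
      apply pullback.hom_ext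
      · simp [u]
      · simpa using hps
    simp only [e₁, Iso.trans_hom, ← Category.assoc, hp', transR_lift]
    apply pullback.hom_ext
    · simp only [P, Category.assoc, pullback.congrHom_hom, pullback.lift_fst, pullback.lift_fst_assoc,
        Category.comp_id, Category.id_comp]
      rw [reassoc_of% hv]
      simp only [tk, sk, Category.assoc, reassoc_of% G.i_s]
    · simp only [P, Category.assoc, pullback.congrHom_hom, pullback.lift_snd, pullback.lift_snd_assoc,
        Category.comp_id, Category.id_comp]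
  rw [← pointOfClosedPoint_apply (pullback.snd (sk G eU) (acb k)) z hz (IsLocalRing.closedPoint M),
    ← Scheme.Hom.comp_apply, hp, Scheme.Hom.comp_apply, ePt]
  have : Subsingleton (Spec (CommRingCat.of M)) := inferInstanceAs (Subsingleton (PrimeSpectrum M))
  exact congrArg _ (Subsingleton.elim _ _)

include eU in
/-- smooth somewhere implies smooth -/
theorem smooth_of_smoothLocus [LocallyOfFinitePresentation (sk G eU)]
    (hne : ((sk G eU).smoothLocus : Set G.R).Nonempty) : Smooth (sk G eU) := by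
  let g := acb k
  have hF : Flat (acb k) := flat_acb
  have hS : Surjective g := PointBase.surj _ g
  have hQ : QuasiCompact g := inferInstance
  apply MorphismProperty.of_pullback_snd_of_descendsAlong
    (Q := @Surjective ⊓ @Flat ⊓ @QuasiCompact) (f := sk G eU) (g := g)
  · exact ⟨⟨hS, hF⟩, hQ⟩
  have : JacobsonSpace ↥(pullback (sk G eU) g) :=
    LocallyOfFiniteType.jacobsonSpace (pullback.snd (sk G eU) g)
  let f' := pullback.snd (sk G eU) g
  have key : ∀ z : ↥(pullback (sk G eU) g), IsClosed ({z} : Set ↥(pullback (sk G eU) g)) →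
      (z ∈ f'.smoothLocus ↔ ePt G eU (acb k) ∈ f'.smoothLocus) := by
    intro z hz
    obtain ⟨E, v, hE, hv, hEv, hEz⟩ := exists_iso_ePt G eU hz
    rw [← hEz]
    show z ∈ f'.smoothLocus ↔ z ∈ E ⁻¹ᵁ f'.smoothLocus
    rw [Scheme.Hom.preimage_smoothLocus_eq]
    rw! [hEv, smoothLocus_comp_iso]
    rfl
  let U := (sk G eU).smoothLocus
  let U' : (pullback (sk G eU) g).Opens := pullback.fst (sk G eU) g ⁻¹ᵁ U
  have hU : Smooth (U.ι ≫ sk G eU) := by
    rw [← Scheme.Hom.smoothLocus_eq_top_iff, ← Scheme.Hom.preimage_smoothLocus_eq]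
    exact Scheme.Opens.ι_preimage_self U
  have hU' : Smooth (U'.ι ≫ f') :=
    MorphismProperty.of_isPullback
      ((isPullback_morphismRestrict (pullback.fst (sk G eU) g) U).flip.paste_horiz
        (IsPullback.of_hasPullback (sk G eU) g).flip |>.flip) hU
  have hU'le : ∀ w ∈ U', w ∈ f'.smoothLocus := by
    intro w hw
    have h1 : (⟨w, hw⟩ : U') ∈ U'.ι ⁻¹ᵁ f'.smoothLocus := by
      rw [Scheme.Hom.preimage_smoothLocus_eq, Scheme.Hom.smoothLocus_eq_top]
      trivial
    exact h1
  have hU'ne : (U' : Set ↥(pullback (sk G eU) g)).Nonempty := by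
    obtain ⟨w, hw⟩ := hne
    obtain ⟨w', hw'⟩ := (pullback.fst (sk G eU) g).surjective w
    exact ⟨w', show pullback.fst (sk G eU) g w' ∈ U by rw [hw']; exact hw⟩
  obtain ⟨y, hy, hyc⟩ := nonempty_inter_closedPoints hU'ne U'.2.isLocallyClosed
  rw [← Scheme.Hom.smoothLocus_eq_top_iff, ← TopologicalSpace.Opens.coe_eq_univ,
    ← not_ne_iff, ← Set.nonempty_compl]
  intro H
  obtain ⟨x, hx, hxc⟩ := nonempty_inter_closedPoints H f'.smoothLocus.2.isClosed_compl.isLocallyClosed
  exact hx ((key x hxc).2 ((key y hyc).1 (hU'le y hy)))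

include eU in
/-- the source and the target are smooth as soon as the source is smooth somewhere -/
theorem smooth_st_of_smoothLocus [LocallyOfFinitePresentation (sk G eU)]
    (hne : ((sk G eU).smoothLocus : Set G.R).Nonempty) : Smooth G.s ∧ Smooth G.t := by
  have h := smooth_of_smoothLocus G eU hne
  have hs : Smooth G.s := by
    have : G.s = sk G eU ≫ eU.inv := by simp [sk]
    rw [this]; infer_instance
  refine ⟨hs, ?_⟩
  rw [← G.i_s]
  have : IsIso G.i := ⟨G.i, GrpdLib.i_i G, GrpdLib.i_i G⟩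
  infer_instance

end Groth.Agent.GrpdField
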