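import Groth.Agent.GrpdField.Component
import Groth.Agent.GrpdField.FieldInFT
import Groth.Agent.Unibranch.FibreChains

/-!
# The component through the identity lies in the stabilizer
-/

universe u
open CategoryTheory CategoryTheory.Limits AlgebraicGeometry Groth.Agent.GrpField
open scoped TensorProduct

set_option backward.isDefEq.respectTransparency false

namespace Groth.Agent.GrpdField

variable {S : Scheme.{u}} (G : Grpd.GroupoidScheme S) {k : Type u} [Field k]
  (eU : G.U ≅ Spec (CommRingCat.of k))

/-- a map of a finite type domain: the kernel of a map out of a ring generated by two fields is maximal -/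
theorem isMaximal_ker {F k A : Type u} [CommRing F] [Field k] [Algebra F k] [CommRing A] [IsDomain A]
    (θ : k ⊗[F] k →+* A)
    (hft : (θ.comp ((Algebra.TensorProduct.includeRight (R := F) (A := k) (B := k)).toRingHom)).FiniteType) :
    (RingHom.ker θ).IsMaximal := by
  let s : k →+* A := θ.comp (Algebra.TensorProduct.includeRight (R := F) (A := k) (B := k)).toRingHom
  let : Algebra k A := s.toAlgebra
  have : Algebra.FiniteType k A := hft
  let t : k →+* A := θ.comp (Algebra.TensorProduct.includeLeftRingHom)
  have hint : ∀ z, IsIntegral k (θ z) := by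
    intro z
    induction z with
    | zero => rw [map_zero]; exact isIntegral_zero
    | tmul a b =>
      rw [show a ⊗ₜ[F] b = (a ⊗ₜ[F] (1 : k)) * ((1 : k) ⊗ₜ[F] b) by simp, map_mul]
      refine (isIntegral_of_field t a).mul ?_
      exact isIntegral_algebraMap (R := k) (A := A) (x := b)
    | add a b ha hb => rw [map_add]; exact ha.add hb
  let B : Subalgebra k A :=
    { θ.range.toSubsemiring with algebraMap_mem' := fun c => ⟨_, rfl⟩ }
  have : Algebra.IsIntegral k B := ⟨fun ⟨_, z, rfl⟩ => by
    rw [← isIntegral_algHom_iff B.val Subtype.val_injective]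
    exact hint z⟩
  have hB : IsField B := isField_of_isIntegral_of_isField' (Field.toIsField k)
  let e : (k ⊗[F] k) ⧸ RingHom.ker θ ≃+* θ.range := RingHom.quotientKerEquivRange θ
  refine Ideal.Quotient.maximal_of_isField _ ?_
  exact MulEquiv.isField (B := B) hB (e.toMulEquiv.trans ⟨Equiv.refl _, fun _ _ => rfl⟩)

include eU in
/-- `j` is constant on the component through the identity -/
theorem j_eq_of_mem [LocallyOfFiniteType G.s] {x : G.R}
    (hx : x ∈ irreducibleComponent (ek G eU (IsLocalRing.closedPoint k))) :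
    G.j x = G.j (ek G eU (IsLocalRing.closedPoint k)) := by
  let e₀ := ek G eU (IsLocalRing.closedPoint k)
  have hI : IsIrreducible (irreducibleComponent e₀) := isIrreducible_irreducibleComponent
  have hg := hI.closure_genericPoint isClosed_irreducibleComponent
  let η := hI.genericPoint
  suffices h : ∀ y, η ⤳ y → G.j y = G.j η by
    rw [h x (specializes_iff_mem_closure.2 (hg.symm ▸ hx)),
      h e₀ (specializes_iff_mem_closure.2 (hg.symm ▸ mem_irreducibleComponent))]
  -- factor the base point through its residue field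
  let g : Spec (CommRingCat.of k) ⟶ S := eU.inv ≫ G.pU
  let s₀ := g (IsLocalRing.closedPoint k)
  let ν : S.residueField s₀ ⟶ CommRingCat.of k := (Scheme.SpecToEquivOfField k S g).2
  have hν : Spec.map ν ≫ S.fromSpecResidueField s₀ = g := (Scheme.SpecToEquivOfField k S).left_inv g
  let : Algebra (S.residueField s₀) k := ν.hom.toAlgebra
  let Q := pullback (Spec.map ν) (Spec.map ν)
  let T := CommRingCat.of (k ⊗[S.residueField s₀] k)
  let iQ : Q ≅ Spec T := pullbackSpecIso (S.residueField s₀) k k
  have hw : tk G eU ≫ Spec.map ν = sk G eU ≫ Spec.map ν := by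
    rw [← cancel_mono (S.fromSpecResidueField s₀)]
    simp only [g, tk, sk, Category.assoc, hν, Iso.hom_inv_id_assoc, G.t_over, G.s_over]
  let j₁ : G.R ⟶ Q := pullback.lift (tk G eU) (sk G eU) hw
  let ψ : G.R ⟶ Spec T := j₁ ≫ iQ.hom
  let ι₁ : Q ⟶ pullback G.pU G.pU := pullback.map _ _ _ _ eU.inv eU.inv (S.fromSpecResidueField s₀)
    (by rw [hν]) (by rw [hν])
  have hj : G.j = ψ ≫ iQ.inv ≫ ι₁ := by
    apply pullback.hom_ext
    · simp [Grpd.GroupoidScheme.j, ψ, ι₁, j₁, tk]
    · simp [Grpd.GroupoidScheme.j, ψ, ι₁, j₁, sk]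
  intro y hηy
  suffices h : ψ y = ψ η by
    rw [hj]
    simp only [Scheme.Hom.comp_apply, h]
  obtain ⟨V, hV, hyV, -⟩ := exists_isAffineOpen_mem_and_subset (show y ∈ (⊤ : G.R.Opens) from trivial)
  have hηV : η ∈ V := hηy.mem_open V.2 hyV
  let p := hV.primeIdealOf ⟨η, hηV⟩
  obtain ⟨α, hα⟩ := Spec.map_surjective (hV.fromSpec ≫ ψ)
  let θ : k ⊗[S.residueField s₀] k →+* Γ(G.R, V) ⧸ p.asIdeal := (Ideal.Quotient.mk p.asIdeal).comp α.hom
  have hαs : CommRingCat.ofHom ((Algebra.TensorProduct.includeRight (R := S.residueField s₀) (A := k) (B := k)).toRingHom) ≫ α =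
      (Spec.map_surjective (hV.fromSpec ≫ sk G eU)).choose := by
    apply Spec.map_injective
    rw [Spec.map_comp, hα, (Spec.map_surjective (hV.fromSpec ≫ sk G eU)).choose_spec]
    simp only [ψ, iQ, j₁, Category.assoc]
    rw [show (pullbackSpecIso (S.residueField s₀) k k).hom ≫
      Spec.map (CommRingCat.ofHom (Algebra.TensorProduct.includeRight (R := S.residueField s₀) (A := k) (B := k)).toRingHom) = pullback.snd _ _ from
      pullbackSpecIso_hom_snd _ _ _]
    exact congrArg (hV.fromSpec ≫ ·) (pullback.lift_snd _ _ _)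
  have hft : (θ.comp (Algebra.TensorProduct.includeRight (R := S.residueField s₀) (A := k) (B := k)).toRingHom).FiniteType := by
    refine RingHom.FiniteType.comp_surjective (g := Ideal.Quotient.mk p.asIdeal)
      (f := α.hom.comp (Algebra.TensorProduct.includeRight (R := S.residueField s₀) (A := k) (B := k)).toRingHom) ?_ Ideal.Quotient.mk_surjective
    have h1 : LocallyOfFiniteType (Spec.map (CommRingCat.ofHom ((Algebra.TensorProduct.includeRight (R := S.residueField s₀) (A := k) (B := k)).toRingHom) ≫ α)) := by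
      rw [hαs, (Spec.map_surjective (hV.fromSpec ≫ sk G eU)).choose_spec]
      have : LocallyOfFiniteType (sk G eU) := inferInstanceAs (LocallyOfFiniteType (G.s ≫ eU.hom))
      infer_instance
    rw [HasRingHomProperty.Spec_iff (P := @LocallyOfFiniteType)] at h1
    exact h1
  have hmax : (Ideal.comap α.hom p.asIdeal).IsMaximal := by
    have := isMaximal_ker θ hft
    rwa [show RingHom.ker θ = Ideal.comap α.hom p.asIdeal by
      rw [← RingHom.comap_ker, Ideal.mk_ker]] at this
  let q := hV.primeIdealOf ⟨y, hyV⟩
  have hpq : p.asIdeal ≤ q.asIdeal := (Groth.Agent.Unibranch.primeIdealOf_le_iff hV hηV hyV).2 hηy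
  have heq : Ideal.comap α.hom q.asIdeal = Ideal.comap α.hom p.asIdeal :=
    (hmax.eq_of_le (q.2.comap α.hom).ne_top (Ideal.comap_mono hpq)).symm
  have hy' : hV.fromSpec q = y := hV.fromSpec_primeIdealOf ⟨y, hyV⟩
  have hη' : hV.fromSpec p = η := hV.fromSpec_primeIdealOf ⟨η, hηV⟩
  rw [← hy', ← hη', ← Scheme.Hom.comp_apply, ← Scheme.Hom.comp_apply, ← hα]
  exact PrimeSpectrum.ext heq

include eU in
/-- the component through the identity embeds in the stabilizer -/
theorem dim_component_le [LocallyOfFiniteType G.s] :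
    topologicalKrullDim ↥(irreducibleComponent (ek G eU (IsLocalRing.closedPoint k))) ≤
      topologicalKrullDim G.stabilizer ∧ topologicalKrullDim G.stabilizer ≤ topologicalKrullDim G.R := by
  have hd : G.diag = pullback.diagonal G.pU := rfl
  have : IsPreimmersion G.diag := by rw [hd]; infer_instance
  let f : G.stabilizer ⟶ G.R := pullback.fst G.j G.diag
  have : IsPreimmersion f := inferInstanceAs (IsPreimmersion (pullback.fst G.j G.diag))
  have hemb : Topology.IsInducing f := f.isEmbedding.isInducing
  refine ⟨?_, hemb.topologicalKrullDim_le⟩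
  have hsub : irreducibleComponent (ek G eU (IsLocalRing.closedPoint k)) ⊆ Set.range f := by
    intro x hx
    change x ∈ Set.range (pullback.fst G.j G.diag)
    rw [Scheme.Pullback.range_fst, Set.mem_preimage, j_eq_of_mem G eU hx]
    refine ⟨eU.inv (IsLocalRing.closedPoint k), ?_⟩
    rw [ek, ← Scheme.Hom.comp_apply, ← Scheme.Hom.comp_apply, Category.assoc]
    have hh : eU.inv ≫ G.diag = eU.inv ≫ G.e ≫ G.j := by
      rw [show G.e ≫ G.j = G.diag by
        apply pullback.hom_ext
        · simp [Grpd.GroupoidScheme.diag, Grpd.GroupoidScheme.j, G.e_t]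
        · simp [Grpd.GroupoidScheme.diag, Grpd.GroupoidScheme.j, G.e_s]]
    rw [hh]
  choose g hg using fun x : ↥(irreducibleComponent (ek G eU (IsLocalRing.closedPoint k))) => hsub x.2
  have hfg : ⇑f ∘ g = Subtype.val := funext hg
  have hgi : Topology.IsInducing g := by
    refine (hemb.of_comp_iff (f := g)).1 ?_
    rw [hfg]; exact Topology.IsInducing.subtypeVal
  exact hgi.topologicalKrullDim_le

end Groth.Agent.GrpdField
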