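import Groth.Agent.GrpComp.Orbit

/-!
# Unique components and minimal primes of stalks
-/

universe u
open CategoryTheory AlgebraicGeometry

namespace Groth.Agent.GrpdField

open GrpComp

/-- if components through points are unique, stalks have a unique minimal prime -/
theorem minimalPrimes_subsingleton {X : Scheme.{u}} (h : Uniq X) (x : X) :
    (minimalPrimes (X.presheaf.stalk x)).Subsingleton := by
  have hI : IsIrreducible (irreducibleComponent x) := isIrreducible_irreducibleComponent
  have hg : closure ({hI.genericPoint} : Set X) = irreducibleComponent x :=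
    hI.closure_genericPoint isClosed_irreducibleComponent
  obtain ⟨q, hq⟩ : hI.genericPoint ∈ Set.range (X.fromSpecStalk x) := by
    rw [Scheme.range_fromSpecStalk]
    exact specializes_iff_mem_closure.2 (hg.symm ▸ mem_irreducibleComponent)
  let qI : Ideal (X.presheaf.stalk x) := PrimeSpectrum.asIdeal q
  have key : ∀ p ∈ minimalPrimes (X.presheaf.stalk x), p = qI := by
    intro p hp
    have : p.IsPrime := hp.1.1
    let P : Spec (X.presheaf.stalk x) := ⟨p, hp.1.1⟩
    have hPx : X.fromSpecStalk x P ⤳ x := by
      have : X.fromSpecStalk x P ∈ Set.range (X.fromSpecStalk x) := ⟨P, rfl⟩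
      rwa [Scheme.range_fromSpecStalk] at this
    have hmem : X.fromSpecStalk x P ∈ irreducibleComponent x := by
      rw [← h.eq_of_mem (hPx.mem_closed isClosed_irreducibleComponent mem_irreducibleComponent)]
      exact mem_irreducibleComponent
    have hsp : hI.genericPoint ⤳ X.fromSpecStalk x P :=
      specializes_iff_mem_closure.2 (hg.symm ▸ hmem)
    rw [← hq, (X.fromSpecStalk x).isEmbedding.isInducing.specializes_iff] at hsp
    have hle : qI ≤ p := (PrimeSpectrum.le_iff_specializes q P).2 hsp
    exact le_antisymm (hp.2 ⟨PrimeSpectrum.isPrime q, bot_le⟩ hle) hle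
  exact fun p hp p' hp' => (key p hp).trans (key p' hp').symm

end Groth.Agent.GrpdField
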