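import Groth.Agent.GrpdField.RatPoint
import Groth.Prelude.Def_Grpd

/-!
# Irreducible components of a groupoid on a field
-/

universe u
open CategoryTheory CategoryTheory.Limits AlgebraicGeometry Groth.Agent.GrpField

set_option backward.isDefEq.respectTransparency false

namespace Groth.Agent.GrpdField

open GrpComp

variable {S : Scheme.{u}} (G : Grpd.GroupoidScheme S) {k : Type u} [Field k]
  (eU : G.U ≅ Spec (CommRingCat.of k))

/-- source to the field -/
noncomputable abbrev sk : G.R ⟶ Spec (CommRingCat.of k) := G.s ≫ eU.hom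

/-- target to the field -/
noncomputable abbrev tk : G.R ⟶ Spec (CommRingCat.of k) := G.t ≫ eU.hom

/-- identity from the field -/
noncomputable abbrev ek : Spec (CommRingCat.of k) ⟶ G.R := eU.inv ≫ G.e

lemma ek_sk : ek G eU ≫ sk G eU = 𝟙 _ := by
  simp only [Category.assoc, reassoc_of% G.e_s]; simp

lemma ek_tk : ek G eU ≫ tk G eU = 𝟙 _ := by
  simp only [Category.assoc, reassoc_of% G.e_t]; simp

/-- composition of points -/
noncomputable def mulR {T : Scheme.{u}} (α β : T ⟶ G.R) (h : α ≫ sk G eU = β ≫ tk G eU) : T ⟶ G.R :=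
  pullback.lift α β (by rwa [← cancel_mono eU.hom, Category.assoc, Category.assoc]) ≫ G.c

lemma mulR_sk {T : Scheme.{u}} (α β : T ⟶ G.R) (h : α ≫ sk G eU = β ≫ tk G eU) :
    mulR G eU α β h ≫ sk G eU = β ≫ sk G eU := by
  rw [mulR, sk, ← Category.assoc, G.comp_s, Category.assoc]

lemma comp_mulR {T T' : Scheme.{u}} (v : T' ⟶ T) (α β : T ⟶ G.R)
    (h : α ≫ sk G eU = β ≫ tk G eU) :
    v ≫ mulR G eU α β h = mulR G eU (v ≫ α) (v ≫ β) (by simp only [Category.assoc, h]) := by
  rw [mulR, mulR, ← Category.assoc]
  congr 1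
  apply pullback.hom_ext <;> simp

lemma mulR_mulR_i {T : Scheme.{u}} (α β : T ⟶ G.R) (h : α ≫ sk G eU = β ≫ tk G eU) :
    mulR G eU (mulR G eU α β h) (β ≫ G.i)
      (by rw [mulR_sk, tk, Category.assoc, reassoc_of% G.i_t]) = α := by
  have h' : α ≫ G.s = β ≫ G.t := by
    rwa [← cancel_mono eU.hom, Category.assoc, Category.assoc]
  have h'' : β ≫ G.s = (β ≫ G.i) ≫ G.t := by rw [Category.assoc, G.i_t]
  unfold mulR
  rw [G.assoc α β (β ≫ G.i) h' h'']
  have := G.comp_e α
  conv_rhs => rw [← this]
  congr 1
  apply pullback.hom_ext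
  · simp
  · rw [pullback.lift_snd, pullback.lift_snd, G.comp_i, reassoc_of% h']

lemma mulR_i_mulR {T : Scheme.{u}} (α β : T ⟶ G.R) (h : α ≫ sk G eU = β ≫ sk G eU) :
    mulR G eU (mulR G eU α (β ≫ G.i) (by rw [h, tk, Category.assoc, reassoc_of% G.i_t])) β
      (by rw [mulR_sk, sk, tk, Category.assoc, reassoc_of% G.i_s]) = α := by
  have h' : α ≫ G.s = β ≫ G.s := by
    rwa [← cancel_mono eU.hom, Category.assoc, Category.assoc]
  have h1 : α ≫ G.s = (β ≫ G.i) ≫ G.t := by rw [Category.assoc, G.i_t, h']
  have h2 : (β ≫ G.i) ≫ G.s = β ≫ G.t := by rw [Category.assoc, G.i_s]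
  unfold mulR
  rw [G.assoc α (β ≫ G.i) β h1 h2]
  have := G.comp_e α
  conv_rhs => rw [← this]
  congr 1
  apply pullback.hom_ext
  · simp
  · rw [pullback.lift_snd, pullback.lift_snd, G.i_comp, reassoc_of% h']

/-- right translation by an arrow -/
noncomputable def transR {T : Scheme.{u}} (δ : T ⟶ G.R) :
    pullback (sk G eU) (δ ≫ tk G eU) ≅ pullback (sk G eU) (δ ≫ sk G eU) where
  hom := pullback.lift (mulR G eU (pullback.fst _ _) (pullback.snd _ _ ≫ δ)
      (by rw [pullback.condition, Category.assoc])) (pullback.snd _ _)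
    (by rw [mulR_sk, Category.assoc])
  inv := pullback.lift (mulR G eU (pullback.fst _ _) ((pullback.snd _ _ ≫ δ) ≫ G.i)
      (by rw [pullback.condition]; simp only [tk, sk, Category.assoc, reassoc_of% G.i_t]))
      (pullback.snd _ _)
    (by rw [mulR_sk]; simp only [tk, sk, Category.assoc, reassoc_of% G.i_s])
  hom_inv_id := by
    apply pullback.hom_ext
    · rw [Category.assoc, pullback.lift_fst, comp_mulR, Category.id_comp]
      simp only [pullback.lift_fst, pullback.lift_snd_assoc, Category.assoc]
      simpa only [Category.assoc] using mulR_mulR_i G eU (pullback.fst (sk G eU) (δ ≫ tk G eU))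
        (pullback.snd (sk G eU) (δ ≫ tk G eU) ≫ δ) (by rw [pullback.condition, Category.assoc])
    · simp
  inv_hom_id := by
    apply pullback.hom_ext
    · rw [Category.assoc, pullback.lift_fst, comp_mulR, Category.id_comp]
      simp only [pullback.lift_fst, pullback.lift_snd_assoc, Category.assoc]
      simpa only [Category.assoc] using mulR_i_mulR G eU (pullback.fst (sk G eU) (δ ≫ sk G eU))
        (pullback.snd (sk G eU) (δ ≫ sk G eU) ≫ δ) (by rw [pullback.condition, Category.assoc])
    · simp

/-- the identity point of a base change -/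
noncomputable def ePt {M : Type u} [Field M] (h : Spec (CommRingCat.of M) ⟶ Spec (CommRingCat.of k)) :
    ↥(pullback (sk G eU) h) :=
  pullback.lift (h ≫ ek G eU) (𝟙 _) (by rw [Category.assoc, ek_sk]; simp)
    (IsLocalRing.closedPoint M)

lemma transR_lift {T : Scheme.{u}} (u : T ⟶ G.R) :
    pullback.lift u (𝟙 T) (by simp only [tk, sk, Category.id_comp, Category.assoc, reassoc_of% G.i_t]) ≫
      (transR G eU (u ≫ G.i)).hom =
    pullback.lift (((u ≫ G.i) ≫ sk G eU) ≫ ek G eU) (𝟙 T)
      (by rw [Category.assoc, ek_sk]; simp) := by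
  apply pullback.hom_ext
  · simp only [transR, Category.assoc, pullback.lift_fst, comp_mulR, pullback.lift_snd_assoc,
      Category.id_comp]
    rw [mulR]
    rw [G.comp_i]
    simp [reassoc_of% G.i_s]
  · simp [transR]

section
variable {M : Type u} [Field M] [IsAlgClosed M]
  (h : Spec (CommRingCat.of M) ⟶ Spec (CommRingCat.of k))

lemma uniqAt_ePt_iff : UniqAt (ePt G eU h) ↔ UniqAt (ePt G eU (acb k)) := by
  obtain ⟨φ, rfl⟩ := Spec.map_surjective h
  let : Algebra k M := φ.hom.toAlgebra
  let j : AlgebraicClosure k →ₐ[k] M := IsAlgClosed.lift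
  let := j.toRingHom.toAlgebra
  let v := Spec.map (CommRingCat.ofHom (algebraMap (AlgebraicClosure k) M))
  have hv : v ≫ acb k = Spec.map φ := by
    rw [← Spec.map_comp]
    congr 1
    ext a
    exact j.commutes a
  let P : pullback (sk G eU) (Spec.map φ) ⟶ pullback (sk G eU) (acb k) :=
    pullback.lift (pullback.fst _ _) (pullback.snd _ _ ≫ v)
      (by rw [pullback.condition, Category.assoc, hv])
  have hpb : IsPullback P (pullback.snd (sk G eU) (Spec.map φ)) (pullback.snd (sk G eU) (acb k)) v :=
    IsPullback.of_right (by simpa [P, hv] using IsPullback.of_hasPullback (sk G eU) (Spec.map φ))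
      (by simp [P]) (IsPullback.of_hasPullback (sk G eU) (acb k))
  have : GeometricallyIrreducible P :=
    MorphismProperty.of_isPullback hpb.flip (GeomConn.geometricallyIrreducible_Spec (k := AlgebraicClosure k) M)
  have : UniversallyOpen P :=
    MorphismProperty.of_isPullback hpb.flip (PointBase.uopen (S := Spec (CommRingCat.of (AlgebraicClosure k))) M v)
  rw [uniqAt_iff P.continuous P.surjective (fun C hC => P.isIrreducible_preimage P.isOpenMap hC)]
  have hP : pullback.lift (Spec.map φ ≫ ek G eU) (𝟙 _) (by rw [Category.assoc, ek_sk]; simp) ≫ P =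
      v ≫ pullback.lift (acb k ≫ ek G eU) (𝟙 _) (by rw [Category.assoc, ek_sk]; simp) := by
    apply pullback.hom_ext
    · simp [P, reassoc_of% hv]
    · simp only [P, Category.assoc, pullback.lift_snd, pullback.lift_snd_assoc, Category.comp_id]
      exact Category.id_comp v
  have : Subsingleton (Spec (CommRingCat.of (AlgebraicClosure k))) :=
    inferInstanceAs (Subsingleton (PrimeSpectrum _))
  have hpt : P (ePt G eU (Spec.map φ)) = ePt G eU (acb k) := by
    rw [ePt, ePt, ← Scheme.Hom.comp_apply, hP, Scheme.Hom.comp_apply]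
    exact congrArg _ (Subsingleton.elim _ _)
  rw [hpt]

lemma uniqAt_iff_ePt (z : ↥(pullback (sk G eU) h)) : UniqAt z ↔ UniqAt (ePt G eU (acb k)) := by
  let W := pullback (sk G eU) h
  let M' := AlgebraicClosure (W.residueField z)
  let i₀ : Spec (CommRingCat.of M') ⟶ Spec (W.residueField z) :=
    Spec.map (CommRingCat.ofHom (algebraMap (W.residueField z) M'))
  let p : Spec (CommRingCat.of M') ⟶ W := i₀ ≫ W.fromSpecResidueField z
  let u := p ≫ pullback.fst _ _
  let w : Spec (CommRingCat.of M') ⟶ Spec (CommRingCat.of M) := p ≫ pullback.snd _ _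
  obtain ⟨ψ, hψ⟩ := Spec.map_surjective w
  let : Algebra M M' := ψ.hom.toAlgebra
  have hu : (u ≫ G.i) ≫ tk G eU = w ≫ h := by
    simp only [u, w, tk, Category.assoc, reassoc_of% G.i_t, ← pullback.condition, sk]
  let P : pullback (sk G eU) ((u ≫ G.i) ≫ tk G eU) ⟶ W :=
    pullback.lift (pullback.fst _ _) (pullback.snd _ _ ≫ w)
      (by rw [pullback.condition, Category.assoc]; exact congrArg _ hu)
  have hpb : IsPullback P (pullback.snd _ _) (pullback.snd (sk G eU) h) w :=
    IsPullback.of_right (by simpa [P, ← hu] using IsPullback.of_hasPullback (sk G eU) ((u ≫ G.i) ≫ tk G eU))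
      (by simp [P]) (IsPullback.of_hasPullback (sk G eU) h)
  have : GeometricallyIrreducible w := by
    rw [← hψ]; exact GeomConn.geometricallyIrreducible_Spec (k := M) M'
  have : GeometricallyIrreducible P := MorphismProperty.of_isPullback hpb.flip ‹_›
  have : UniversallyOpen P :=
    MorphismProperty.of_isPullback hpb.flip (PointBase.uopen (S := Spec (CommRingCat.of M)) M' w)
  let q := pullback.lift (f := sk G eU) (g := (u ≫ G.i) ≫ tk G eU) u (𝟙 _)
    (by simp only [tk, sk, Category.id_comp, Category.assoc, reassoc_of% G.i_t])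
  have hq : P (q (IsLocalRing.closedPoint M')) = z := by
    rw [← Scheme.Hom.comp_apply, show q ≫ P = p by
        apply pullback.hom_ext
        · simp [q, P, u]
        · simp only [q, P, Category.assoc, pullback.lift_snd, pullback.lift_snd_assoc]
          exact Category.id_comp w,
      Scheme.Hom.comp_apply]
    exact Scheme.fromSpecResidueField_apply z _
  rw [← hq, ← uniqAt_iff P.continuous P.surjective (fun C hC => P.isIrreducible_preimage P.isOpenMap hC)]
  let e := (transR G eU (u ≫ G.i)).hom.homeomorph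
  have he : e (q (IsLocalRing.closedPoint M')) = ePt G eU ((u ≫ G.i) ≫ sk G eU) := by
    change (transR G eU (u ≫ G.i)).hom (q _) = _
    rw [← Scheme.Hom.comp_apply, transR_lift]
    rfl
  rw [← uniqAt_ePt_iff G eU ((u ≫ G.i) ≫ sk G eU), ← he,
    ← uniqAt_iff e.continuous e.surjective (fun C hC => by
      rw [← e.image_symm]; exact hC.image e.symm e.symm.continuous.continuousOn)]

/-- every point of a base change lies in a unique component -/
theorem uniq_bc : Uniq ↥(pullback (sk G eU) h) := fun z => by
  refine (uniqAt_iff_ePt G eU h z).2 ?_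
  exact (uniqAt_iff_ePt G eU h _).1
    (uniqAt_genericPoint (irreducibleComponent_mem_irreducibleComponents z))

end

include eU in
/-- every point of `R` lies in a unique component -/
theorem uniq_R : Uniq G.R := uniq_of_acb (sk G eU) (uniq_bc G eU _)

end Groth.Agent.GrpdField
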